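import Groth.Agent.Lib.Cech.Opens
import Groth.Agent.Lib.SheafCoh.Top

/-!
# The space of index sets of a family of opens

A family `U` of opens of `X` gives a continuous map from the union of the family to the space of
subsets of the index type, with the topology generated by the sets `{S | i ∈ S}`.
-/

universe u

open CategoryTheory Limits Opposite TopologicalSpace

namespace GrothLib.CechIdx25

/-- Subsets of `ι`. -/
structure Idx (ι : Type u) : Type u where
  /-- The underlying set. -/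
  set : Set ι

variable {ι : Type u}

/-- The index set contains `i`. -/
def basic (i : ι) : Set (Idx ι) := {S | i ∈ S.set}

instance : TopologicalSpace (Idx ι) := TopologicalSpace.generateFrom (Set.range (basic (ι := ι)))

theorem isOpen_basic (i : ι) : IsOpen (basic i : Set (Idx ι)) :=
  TopologicalSpace.isOpen_generateFrom_of_mem ⟨i, rfl⟩

/-- Open sets are determined by finite subsets. -/
theorem exists_finite {W : Set (Idx ι)} (hW : IsOpen W) : ∀ S ∈ W, ∃ T : Set ι, T.Finite ∧
    T ⊆ S.set ∧ ∀ S' : Idx ι, T ⊆ S'.set → S' ∈ W := by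
  induction hW with
  | basic s hs =>
    obtain ⟨i, rfl⟩ := hs
    intro S hS
    exact ⟨{i}, Set.finite_singleton i, Set.singleton_subset_iff.2 hS,
      fun S' h => h (Set.mem_singleton i)⟩
  | univ => exact fun S _ => ⟨∅, Set.finite_empty, Set.empty_subset _, fun _ _ => trivial⟩
  | inter s t _ _ hs ht =>
    intro S hS
    obtain ⟨T, hT, hTS, hT'⟩ := hs S hS.1
    obtain ⟨T', hU, hUS, hU'⟩ := ht S hS.2
    exact ⟨T ∪ T', hT.union hU, Set.union_subset hTS hUS,
      fun S' h => ⟨hT' S' (Set.subset_union_left.trans h), hU' S' (Set.subset_union_right.trans h)⟩⟩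
  | sUnion K _ ih =>
    intro S hS
    obtain ⟨W, hW, hSW⟩ := hS
    obtain ⟨T, hT, hTS, hT'⟩ := ih W hW S hSW
    exact ⟨T, hT, hTS, fun S' h => ⟨W, hW, hT' S' h⟩⟩

/-- The open `{S | i ∈ S}`. -/
def D (i : ι) : Opens (TopCat.of (Idx ι)) := ⟨basic i, isOpen_basic i⟩

variable {X : TopCat.{u}} (U : ι → Opens X)

/-- The classifying map on the union of the family. -/
def cls : TopCat.of ↥(iSup U) ⟶ TopCat.of (Idx ι) :=
  TopCat.ofHom ⟨fun x => (⟨{i | (x : X) ∈ U i}⟩ : Idx ι),
    continuous_generateFrom_iff.2 (by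
      rintro s ⟨i, rfl⟩
      exact (U i).isOpen.preimage continuous_subtype_val)⟩

/-- The corresponding map on opens. -/
def opensMap : Opens (TopCat.of (Idx ι)) ⥤ Opens X :=
  Opens.map (cls U) ⋙ (Opens.isOpenEmbedding (iSup U)).functor

theorem mem_opensMap (W : Opens (TopCat.of (Idx ι))) (x : X) :
    x ∈ (opensMap U).obj W ↔ x ∈ iSup U ∧ (⟨{i | x ∈ U i}⟩ : Idx ι) ∈ (W : Set (Idx ι)) := by
  constructor
  · rintro ⟨⟨y, hy⟩, h, rfl⟩
    exact ⟨hy, h⟩
  · rintro ⟨hx, h⟩
    exact ⟨⟨x, hx⟩, h, rfl⟩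

theorem opensMap_top : (opensMap U).obj ⊤ = iSup U := by
  refine Opens.ext (Set.ext fun x => (mem_opensMap U ⊤ x).trans ?_)
  exact ⟨fun h => h.1, fun h => ⟨h, trivial⟩⟩

theorem opensMap_iInf {n : ℕ} (a : Fin (n + 1) → ι) :
    (opensMap U).obj (⨅ k, D (a k)) = ⨅ k, U (a k) := by
  refine Opens.ext (Set.ext fun x => (mem_opensMap U _ x).trans ?_)
  have h1 : ∀ S : Idx ι, S ∈ ((⨅ k, D (a k) : Opens (TopCat.of (Idx ι))) : Set (Idx ι)) ↔
      ∀ k, a k ∈ S.set := fun S => by
    rw [Opens.coe_iInf, Set.mem_iInter]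
    rfl
  rw [h1, Opens.coe_iInf, Set.mem_iInter]
  exact ⟨fun h => h.2, fun h => ⟨Opens.mem_iSup.2 ⟨a 0, h 0⟩, h⟩⟩

/-- The direct image of the restriction of `F` to the space of index sets. -/
noncomputable def idxSheaf (F : CohTop.Ab X) : CohTop.Ab (TopCat.of (Idx ι)) :=
  (CohTop.push (cls U)).obj (CohTop.restr F (iSup U))

theorem idxSheaf_obj (F : CohTop.Ab X) : (idxSheaf U F).obj = (opensMap U).op ⋙ F.obj := rfl

/-- Surjective restrictions to unions of finite intersections make the direct image flasque. -/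
theorem isFlasque_idxSheaf (F : CohTop.Ab X)
    (h : ∀ (κ : Type u) (a : κ → Σ p : ℕ, Fin (p + 1) → ι),
      Function.Surjective (F.obj.map (homOfLE
        (iSup_le fun k => (iInf_le _ ⟨0, Nat.succ_pos _⟩).trans (le_iSup U ((a k).2 ⟨0, Nat.succ_pos _⟩)) :
          (⨆ k, ⨅ j, U ((a k).2 j)) ≤ iSup U)).op)) :
    TopCat.Sheaf.IsFlasque (idxSheaf U F) := by
  have key : ∀ V : Opens (TopCat.of (Idx ι)),
      Function.Surjective (F.obj.map ((opensMap U).map (homOfLE (le_top : V ≤ ⊤))).op) := by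
    intro V
    by_cases h0 : (⟨∅⟩ : Idx ι) ∈ (V : Set (Idx ι))
    · have hV : V = ⊤ := by
        refine eq_top_iff.2 fun S _ => ?_
        obtain ⟨T, -, hT, hT'⟩ := exists_finite V.isOpen _ h0
        exact hT' S (hT.trans (Set.empty_subset _))
      subst hV
      intro s
      refine ⟨s, ?_⟩
      rw [Subsingleton.elim (homOfLE (le_top : (⊤ : Opens (TopCat.of (Idx ι))) ≤ ⊤)) (𝟙 _)]
      erw [CategoryTheory.Functor.map_id]
      rfl
    · let κ : Type u := {k : Σ p : ℕ, Fin (p + 1) → ι //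
        ∀ S : Idx ι, (∀ j, k.2 j ∈ S.set) → S ∈ (V : Set (Idx ι))}
      have hV : (opensMap U).obj V = ⨆ k : κ, ⨅ j, U (k.1.2 j) := by
        refine Opens.ext (Set.ext fun x => (mem_opensMap U V x).trans ?_)
        rw [Opens.coe_iSup, Set.mem_iUnion]
        constructor
        · rintro ⟨-, hx⟩
          obtain ⟨T, hT, hTS, hT'⟩ := exists_finite V.isOpen _ hx
          obtain rfl | hne := T.eq_empty_or_nonempty
          · exact absurd (hT' ⟨∅⟩ (Set.empty_subset _)) h0
          obtain ⟨n, e, -, he⟩ := hT.fin_param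
          obtain ⟨p, rfl⟩ : ∃ p, n = p + 1 := by
            cases n with
            | zero =>
              obtain ⟨i, hi⟩ := hne
              rw [← he] at hi
              exact hi.choose.elim0
            | succ p => exact ⟨p, rfl⟩
          refine ⟨⟨⟨p, e⟩, fun S hS => hT' S ?_⟩, ?_⟩
          · rw [← he]
            rintro _ ⟨j, rfl⟩
            exact hS j
          · rw [Opens.coe_iInf, Set.mem_iInter]
            exact fun j => hTS (he.le ⟨j, rfl⟩)
        · rintro ⟨k, hk⟩
          rw [Opens.coe_iInf, Set.mem_iInter] at hk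
          exact ⟨Opens.mem_iSup.2 ⟨_, hk 0⟩, k.2 _ hk⟩
      intro s
      obtain ⟨t, ht⟩ := h κ (fun k => k.1) (F.obj.map (eqToHom hV.symm).op s)
      refine ⟨F.obj.map (eqToHom (opensMap_top U)).op t, ?_⟩
      have hs : F.obj.map (eqToHom hV).op (F.obj.map (eqToHom hV.symm).op s) = s := by
        rw [← ConcreteCategory.comp_apply, ← F.obj.map_comp, ← op_comp, eqToHom_trans, eqToHom_refl,
          op_id, F.obj.map_id]
        rfl
      rw [← hs, ← ht, ← ConcreteCategory.comp_apply, ← F.obj.map_comp, ← ConcreteCategory.comp_apply,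
        ← F.obj.map_comp]
      exact congrArg (fun g => F.obj.map g t) (Quiver.Hom.unop_inj (Subsingleton.elim _ _))
  refine ⟨fun {A B} i => ?_⟩
  have h2 : Epi (F.obj.map ((opensMap U).map (homOfLE (le_top : B.unop ≤ ⊤))).op) :=
    (AddCommGrpCat.epi_iff_surjective _).2 (key B.unop)
  have e : F.obj.map ((opensMap U).map (homOfLE (le_top : B.unop ≤ ⊤))).op =
      F.obj.map ((opensMap U).map (homOfLE (le_top : A.unop ≤ ⊤))).op ≫
        F.obj.map ((opensMap U).map i.unop).op := by
    rw [← F.obj.map_comp, ← op_comp, ← Functor.map_comp]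
    rfl
  exact @epi_of_epi _ _ _ _ _ (F.obj.map ((opensMap U).map (homOfLE (le_top : A.unop ≤ ⊤))).op)
    (F.obj.map ((opensMap U).map i.unop).op) (e ▸ h2)

theorem obj_idx_eq {n : ℕ} (a : Fin (n + 1) → ι) :
    Cech.obj U a = (opensMap U).obj (Cech.obj D a) := by
  rw [Cech.obj_eq_iInf, Cech.obj_eq_iInf, opensMap_iInf]

/-- The terms of the two Cech complexes agree. -/
noncomputable def termIso (F : CohTop.Ab X) (n : ℕ) :
    (Cech.cx D ((opensMap U).op ⋙ F.obj)).X n ≅ (Cech.cx U F.obj).X n :=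
  Pi.mapIso fun a : Fin (n + 1) → ι => F.obj.mapIso (eqToIso (obj_idx_eq U a)).op

theorem ev_termIso (F : CohTop.Ab X) {n : ℕ} (a : Fin (n + 1) → ι)
    (x : (Cech.cx D ((opensMap U).op ⋙ F.obj)).X n) :
    Cech.ev U F.obj a ((termIso U F n).hom x) =
      F.obj.map (eqToHom (obj_idx_eq U a)).op (Cech.ev D ((opensMap U).op ⋙ F.obj) a x) :=
  ConcreteCategory.congr_hom (Pi.map_π
    (fun a : Fin (n + 1) → ι => (F.obj.mapIso (eqToIso (obj_idx_eq U a)).op).hom) a) x

/-- The two Cech complexes are isomorphic. -/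
noncomputable def cxIso (F : CohTop.Ab X) :
    Cech.cx D ((opensMap U).op ⋙ F.obj) ≅ Cech.cx U F.obj :=
  HomologicalComplex.Hom.isoOfComponents (termIso U F) (by
    rintro i _ rfl
    ext x
    refine Cech.ext U F.obj fun a => ?_
    change Cech.ev U F.obj a ((Cech.cx U F.obj).d i (i + 1) ((termIso U F i).hom x)) =
      Cech.ev U F.obj a ((termIso U F (i + 1)).hom ((Cech.cx D _).d i (i + 1) x))
    rw [Cech.ev_d, ev_termIso, Cech.ev_d, map_sum]
    refine Finset.sum_congr rfl fun k _ => ?_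
    rw [map_zsmul, ev_termIso]
    congr 1
    change (F.obj.map _ ≫ F.obj.map _) _ = (F.obj.map _ ≫ F.obj.map _) _
    rw [← F.obj.map_comp, ← F.obj.map_comp]
    exact congrArg (fun g => F.obj.map g _) (Quiver.Hom.unop_inj (Subsingleton.elim _ _)))

theorem isZero_cechH (F : CohTop.Ab X)
    (h : ∀ (κ : Type u) (a : κ → Σ p : ℕ, Fin (p + 1) → ι),
      Function.Surjective (F.obj.map (homOfLE
        (iSup_le fun k => (iInf_le _ ⟨0, Nat.succ_pos _⟩).trans (le_iSup U ((a k).2 ⟨0, Nat.succ_pos _⟩)) :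
          (⨆ k, ⨅ j, U ((a k).2 j)) ≤ iSup U)).op)) (p : ℕ) :
    IsZero (CohTop.cechH F.obj U (p + 1)) := by
  have hfl := isFlasque_idxSheaf U F h
  obtain ⟨e⟩ := Cech.nonempty_cechH_addEquiv D (idxSheaf U F)
    (fun n a q => SheafCoh.flasque_HU_subsingleton (idxSheaf U F) q _) (p + 1)
  have hsub : Subsingleton (CohTop.cechH (idxSheaf U F).obj D (p + 1)) :=
    @Equiv.subsingleton _ _ e.toEquiv (SheafCoh.flasque_HU_subsingleton (idxSheaf U F) p _)
  have hz : IsZero ((Cech.cx D ((opensMap U).op ⋙ F.obj)).homology (p + 1)) :=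
    @AddCommGrpCat.isZero_of_subsingleton _ hsub
  exact hz.of_iso ((HomologicalComplex.homologyFunctor _ _ (p + 1)).mapIso (cxIso U F)).symm

end GrothLib.CechIdx25
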